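import Cfsg.Agent.Lib.Helper56.RuTR.DataE0
import Cfsg.Agent.Lib.Helper56.RuTR.DataE1
import Cfsg.Agent.Lib.Helper56.RuTR.DataE2
import Cfsg.Agent.Lib.Helper56.RuTR.DataE3
import Cfsg.Agent.Lib.Helper56.RuTR.DataE4
import Cfsg.Agent.Lib.Helper56.RuTR.DataE5
import Cfsg.Agent.Lib.Helper56.RuTR.DataA

set_option autoImplicit false
set_option linter.unusedVariables false

namespace Cfsg.Agent.Lib.Helper56.RuTR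

open Cfsg.Agent.Lib.Helper56.RuT (Gen gens mem_gens relE rels hinv)
open Cfsg.Agent.Lib.Helper28.TC

noncomputable section

/-- decode a generator -/
def genOf (c : ℕ) : Gen := Nat.rec (motive := fun _ => Gen) Gen.a (fun c _ => Nat.rec (motive := fun _ => Gen) Gen.b (fun c _ => Nat.rec (motive := fun _ => Gen) Gen.c (fun c _ => Nat.rec (motive := fun _ => Gen) Gen.d (fun c _ => Nat.rec (motive := fun _ => Gen) Gen.e (fun c _ => Gen.f) c) c) c) c) c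

def hotE (x : Gen) : ℕ := Gen.rec (motive := fun _ => ℕ) hotE0 hotE1 hotE2 hotE3 hotE4 hotE5 x
def coldE (x : Gen) : ℕ := Gen.rec (motive := fun _ => ℕ) coldE0 coldE1 coldE2 coldE3 coldE4 coldE5 x
def tfT (x : Gen) : ℕ := Gen.rec (motive := fun _ => ℕ) tfT0 tfT1 tfT2 tfT3 tfT4 tfT5 x

def entH (x : Gen) (u : ℕ) : ℕ := look (hotE x) 26 67108863 u
def jEc (x : Gen) (u : ℕ) : ℕ := look (coldE x) 34 17179869183 u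
def alH (k : ℕ) : ℕ := look hotA 26 67108863 k
def jAc (k : ℕ) : ℕ := look coldA 72 4722366482869645213695 k
def treeE (k : ℕ) : ℕ := look treeT 27 134217727 k
/-- the final coset table -/
def tf (x : Gen) (i : ℕ) : ℕ := look (tfT x) 11 2047 i
/-- the final coset number of a row -/
def fin (k : ℕ) : ℕ := Nat.shiftRight (treeE k) 16
/-- the designated row of a final coset -/
def rowOf (i : ℕ) : ℕ := look rowT 12 4095 i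

/-- the cycle words with their reverses and lengths -/
def cycs : List (List Gen × List Gen × ℕ) := [
  ([Gen.a, Gen.a], [Gen.a, Gen.a], 2),
  ([Gen.b, Gen.b], [Gen.b, Gen.b], 2),
  ([Gen.c, Gen.c], [Gen.c, Gen.c], 2),
  ([Gen.d, Gen.d], [Gen.d, Gen.d], 2),
  ([Gen.e, Gen.e], [Gen.e, Gen.e], 2),
  ([Gen.f, Gen.f], [Gen.f, Gen.f], 2),
  ([Gen.a, Gen.b, Gen.a, Gen.b, Gen.a, Gen.b], [Gen.b, Gen.a, Gen.b, Gen.a, Gen.b, Gen.a], 6),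
  ([Gen.b, Gen.c, Gen.b, Gen.c, Gen.b, Gen.c], [Gen.c, Gen.b, Gen.c, Gen.b, Gen.c, Gen.b], 6),
  ([Gen.c, Gen.d, Gen.c, Gen.d, Gen.c, Gen.d], [Gen.d, Gen.c, Gen.d, Gen.c, Gen.d, Gen.c], 6),
  ([Gen.a, Gen.c, Gen.a, Gen.c], [Gen.c, Gen.a, Gen.c, Gen.a], 4),
  ([Gen.a, Gen.d, Gen.a, Gen.d], [Gen.d, Gen.a, Gen.d, Gen.a], 4),
  ([Gen.b, Gen.d, Gen.b, Gen.d], [Gen.d, Gen.b, Gen.d, Gen.b], 4),
  ([Gen.a, Gen.c, Gen.e, Gen.a, Gen.e], [Gen.e, Gen.a, Gen.e, Gen.c, Gen.a], 5),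
  ([Gen.a, Gen.b, Gen.c, Gen.a, Gen.e, Gen.b, Gen.d, Gen.e, Gen.d, Gen.a, Gen.b, Gen.e, Gen.d], [Gen.d, Gen.e, Gen.b, Gen.a, Gen.d, Gen.e, Gen.d, Gen.b, Gen.e, Gen.a, Gen.c, Gen.b, Gen.a], 13),
  ([Gen.a, Gen.e, Gen.a, Gen.e, Gen.a, Gen.e, Gen.a, Gen.e], [Gen.e, Gen.a, Gen.e, Gen.a, Gen.e, Gen.a, Gen.e, Gen.a], 8),
  ([Gen.b, Gen.e, Gen.b, Gen.e, Gen.b, Gen.e, Gen.b, Gen.e, Gen.b, Gen.e, Gen.b, Gen.e, Gen.b, Gen.e, Gen.b, Gen.e, Gen.b, Gen.e, Gen.b, Gen.e, Gen.b, Gen.e, Gen.b, Gen.e, Gen.b, Gen.e], [Gen.e, Gen.b, Gen.e, Gen.b, Gen.e, Gen.b, Gen.e, Gen.b, Gen.e, Gen.b, Gen.e, Gen.b, Gen.e, Gen.b, Gen.e, Gen.b, Gen.e, Gen.b, Gen.e, Gen.b, Gen.e, Gen.b, Gen.e, Gen.b, Gen.e, Gen.b], 26),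
  ([Gen.c, Gen.e, Gen.c, Gen.e], [Gen.e, Gen.c, Gen.e, Gen.c], 4),
  ([Gen.d, Gen.e, Gen.d, Gen.e, Gen.d, Gen.e, Gen.d, Gen.e, Gen.d, Gen.e], [Gen.e, Gen.d, Gen.e, Gen.d, Gen.e, Gen.d, Gen.e, Gen.d, Gen.e, Gen.d], 10),
  ([Gen.c, Gen.f, Gen.c, Gen.f], [Gen.f, Gen.c, Gen.f, Gen.c], 4),
  ([Gen.a, Gen.f, Gen.a, Gen.f], [Gen.f, Gen.a, Gen.f, Gen.a], 4),
  ([Gen.b, Gen.d, Gen.e, Gen.b, Gen.e, Gen.b, Gen.d, Gen.f, Gen.d, Gen.e, Gen.b, Gen.e, Gen.d, Gen.f, Gen.d, Gen.b, Gen.e, Gen.b, Gen.e, Gen.d, Gen.f], [Gen.f, Gen.d, Gen.e, Gen.b, Gen.e, Gen.b, Gen.d, Gen.f, Gen.d, Gen.e, Gen.b, Gen.e, Gen.d, Gen.f, Gen.d, Gen.b, Gen.e, Gen.b, Gen.e, Gen.d, Gen.b], 21),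
  ([Gen.b, Gen.f, Gen.b, Gen.f], [Gen.f, Gen.b, Gen.f, Gen.b], 4),
  ([Gen.d, Gen.f, Gen.d, Gen.f, Gen.d, Gen.f], [Gen.f, Gen.d, Gen.f, Gen.d, Gen.f, Gen.d], 6),
  ([Gen.e, Gen.f, Gen.e, Gen.f, Gen.e, Gen.f, Gen.e, Gen.f], [Gen.f, Gen.e, Gen.f, Gen.e, Gen.f, Gen.e, Gen.f, Gen.e], 8),
  ([Gen.a], [Gen.a], 1),
  ([Gen.c], [Gen.c], 1),
  ([Gen.e], [Gen.e], 1),
  ([Gen.f], [Gen.f], 1),
  ([Gen.b, Gen.a, Gen.c, Gen.b, Gen.e, Gen.d, Gen.f, Gen.c, Gen.d], [Gen.d, Gen.c, Gen.f, Gen.d, Gen.e, Gen.b, Gen.c, Gen.a, Gen.b], 9),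
  ([Gen.b, Gen.a, Gen.e, Gen.d, Gen.c, Gen.e, Gen.f, Gen.e, Gen.b, Gen.c, Gen.d], [Gen.d, Gen.c, Gen.b, Gen.e, Gen.f, Gen.e, Gen.c, Gen.d, Gen.e, Gen.a, Gen.b], 11)]

/-- the relator words -/
def relWords : List (List Gen) := [
  [Gen.a, Gen.a],
  [Gen.b, Gen.b],
  [Gen.c, Gen.c],
  [Gen.d, Gen.d],
  [Gen.e, Gen.e],
  [Gen.f, Gen.f],
  [Gen.a, Gen.b, Gen.a, Gen.b, Gen.a, Gen.b],
  [Gen.b, Gen.c, Gen.b, Gen.c, Gen.b, Gen.c],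
  [Gen.c, Gen.d, Gen.c, Gen.d, Gen.c, Gen.d],
  [Gen.a, Gen.c, Gen.a, Gen.c],
  [Gen.a, Gen.d, Gen.a, Gen.d],
  [Gen.b, Gen.d, Gen.b, Gen.d],
  [Gen.a, Gen.c, Gen.e, Gen.a, Gen.e],
  [Gen.a, Gen.b, Gen.c, Gen.a, Gen.e, Gen.b, Gen.d, Gen.e, Gen.d, Gen.a, Gen.b, Gen.e, Gen.d],
  [Gen.a, Gen.e, Gen.a, Gen.e, Gen.a, Gen.e, Gen.a, Gen.e],
  [Gen.b, Gen.e, Gen.b, Gen.e, Gen.b, Gen.e, Gen.b, Gen.e, Gen.b, Gen.e, Gen.b, Gen.e, Gen.b, Gen.e, Gen.b, Gen.e, Gen.b, Gen.e, Gen.b, Gen.e, Gen.b, Gen.e, Gen.b, Gen.e, Gen.b, Gen.e],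
  [Gen.c, Gen.e, Gen.c, Gen.e],
  [Gen.d, Gen.e, Gen.d, Gen.e, Gen.d, Gen.e, Gen.d, Gen.e, Gen.d, Gen.e],
  [Gen.c, Gen.f, Gen.c, Gen.f],
  [Gen.a, Gen.f, Gen.a, Gen.f],
  [Gen.b, Gen.d, Gen.e, Gen.b, Gen.e, Gen.b, Gen.d, Gen.f, Gen.d, Gen.e, Gen.b, Gen.e, Gen.d, Gen.f, Gen.d, Gen.b, Gen.e, Gen.b, Gen.e, Gen.d, Gen.f],
  [Gen.b, Gen.f, Gen.b, Gen.f],
  [Gen.d, Gen.f, Gen.d, Gen.f, Gen.d, Gen.f],
  [Gen.e, Gen.f, Gen.e, Gen.f, Gen.e, Gen.f, Gen.e, Gen.f]]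

/-- the subgroup generator words -/
def subWords : List (List Gen) := [
  [Gen.a],
  [Gen.c],
  [Gen.e],
  [Gen.f],
  [Gen.b, Gen.a, Gen.c, Gen.b, Gen.e, Gen.d, Gen.f, Gen.c, Gen.d],
  [Gen.b, Gen.a, Gen.e, Gen.d, Gen.c, Gen.e, Gen.f, Gen.e, Gen.b, Gen.c, Gen.d]]

/-- the certificate -/
def C : Cert Gen where
  par := fun k => Nat.land (treeE k) 4095
  gn := fun k => genOf (Nat.land (Nat.shiftRight (treeE k) 12) 15)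
  ent := fun x u => Nat.land (entH x u) 4095
  rkE := fun x u => Nat.shiftRight (entH x u) 12
  jEk := fun x u => Nat.land (jEc x u) 3
  jEa := fun x u => Nat.land (Nat.shiftRight (jEc x u) 2) 4095
  jEp := fun x u => Nat.land (Nat.shiftRight (jEc x u) 14) 255
  jEz := fun x u => Nat.shiftRight (jEc x u) 22
  al := fun k => Nat.land (alH k) 4095
  rkA := fun k => Nat.shiftRight (alH k) 12
  jAx := fun k => genOf (Nat.land (jAc k) 15)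
  jA1k := fun k => Nat.land (Nat.shiftRight (jAc k) 4) 3
  jA1a := fun k => Nat.land (Nat.shiftRight (jAc k) 6) 4095
  jA1p := fun k => Nat.land (Nat.shiftRight (jAc k) 18) 255
  jA1z := fun k => Nat.land (Nat.shiftRight (jAc k) 26) 4095
  jA2k := fun k => Nat.land (Nat.shiftRight (jAc k) 38) 3
  jA2a := fun k => Nat.land (Nat.shiftRight (jAc k) 40) 4095
  jA2p := fun k => Nat.land (Nat.shiftRight (jAc k) 52) 255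
  jA2z := fun k => Nat.land (Nat.shiftRight (jAc k) 60) 4095
  cycW := fun ci => (nthD cycs ci ([], [], 0)).1
  cycR := fun ci => (nthD cycs ci ([], [], 0)).2.1
  cycL := fun ci => (nthD cycs ci ([], [], 0)).2.2
  cycA := fun ci => Nat.ble 24 ci
  fuel := 3

def NN : ℕ := 2604
def nn : ℕ := 1755
def RR : ℕ := 13700

end

end Cfsg.Agent.Lib.Helper56.RuTR
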